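import Cfsg.Agent.Lib.H34.TCMain

/-! Coset enumeration certificate (generated): permutation tables. -/

set_option autoImplicit false
set_option maxRecDepth 100000

noncomputable section

namespace H93.Y221

open H34.TC

def P0 : Tr := (.leaf 0x48000470004600042000440003f000450003d0003b000430003e0004100037000400003a00039000330003c00032000350003000038000360002e000340002f000310002d0002c0002b0002a000280002900027000260002500021000230001f000240001d000220001b000200001c0001e0001a0001900018000160001700014000150001300012000110000d0000f0000b00010000090000e000070000c000080000a000060000500004000020000300001)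
def P1 : Tr := (.leaf 0x4800047000430004500040000460003e0003c000440003f0004200038000410003b0003a000340003d00033000360003500039000370002f0003100030000320002c0002d0002e0002b0002a000290002700028000240002500026000200002200021000230001c0001e0001d0001f000190001a0001b0001700018000160001500013000140001000011000120000c0000e0000d0000f000080000a000090000b00005000060000700003000040000200001)
def P2 : Tr := (.leaf 0x4600044000480004100047000430003d00045000400003f00039000420003c0003b0003a0003e0003400037000360003500038000300003200031000330002d0002e0002f0002b0002c0002a00029000280002500026000270002200023000240001f0001e00021000200001b0001c0001d00018000190001a000170001600015000140001100012000130000e0000f000100000b0000a0000d0000c000070000800009000040000500006000030000200001)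
def P3 : Tr := (.leaf 0x48000450004600047000410004300042000440003c0003a0003e0003d00040000360003f0003900038000320003b00031000340002f00037000350002d000330002e000300002c0002b0002a000290002600024000280002200027000230002500021000200001f0001e0001a0001c000180001d000170001b0001900016000150001200010000140000e000130000f000110000d0000c0000b0000a000060000800004000090000300007000050000200001)
def P4 : Tr := (.leaf 0x4700048000440004500046000400004200041000430003b0003e0003d0003c0003f00035000390003800037000310003a00034000330002e00036000300002c000320002b0002f0002d0002a000290002800027000230002500020000260001e0001d000240001b0002200021000190001f0001a0001c0001800017000160001500014000130000f000110000c000120000a0000900010000070000e0000d000050000b000060000800004000030000200001)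
def P5 : Tr := (.leaf 0x210001d0001f0001a0001b0001c0004200018000190003f0003e0003d000170003b0003a00039000380001400036000350003400013000120003100011000100000f0000e0000c0000a000290002a000280002700026000250002400023000220004800020000460001e0004700043000440004500040000410003c0001500016000370003300032000300002f0002e0002d0000d0002c0000b0002b000090000800007000060000500004000030000100002)
def ptabs : List Tr := [P0, P1, P2, P3, P4, P5]
def par : Tr := (.leaf 0x450200000004302000000042010000000400200000003f0100000003e0000000003c0200000003b0100000003a00000000039030000000380200000003701000000036000000000350300000003404000000033010000000320000000003103000000030040000000300300000002f0000000002e0300000002d0400000002d0000000002c0300000002b0400000002b0100000002a0400000002a020000000090a0000000280a000000027000000000250300000002303000000022040000000210300000001f0400000001f0100000001d0400000001c0400000001c0000000001a0400000001a00000000019030000000180400000001703000000017020000000160300000001601000000015000000000140a000000013000000000110300000000f0300000000e0400000000d0300000000b0400000000b010000000090400000000804000000008000000000060400000000600000000005030000000040400000000303000000003020000000020300000000201000000001000000000000a00000000000)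
def hw : List (List Nat) := [[0],[1],[2],[3],[4]]
def pwl : List (List Nat) := [[0],[1],[2],[3],[4],[0],[1],[2],[3],[4],[5]]
def rws : List (List Nat) := [[0,0],
  [1,1],
  [2,2],
  [3,3],
  [4,4],
  [5,5],
  [1,0,1,0,1,0],
  [2,0,2,0],
  [3,0,3,0,3,0],
  [4,0,4,0],
  [5,0,5,0,5,0],
  [2,1,2,1,2,1],
  [3,1,3,1],
  [4,1,4,1],
  [5,1,5,1],
  [3,2,3,2],
  [4,2,4,2],
  [5,2,5,2],
  [4,3,4,3,4,3],
  [5,3,5,3],
  [5,4,5,4]]
def bs : List Nat := [1,21,41,42]

def R0 (i : Nat) : Nat := Nat.rec (motive := fun _ => Nat) 0 (fun j _ => Nat.rec (motive := fun _ => Nat) 0 (fun j _ => Nat.succ j) (nextP P0 j)) (nextP P0 i)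
theorem hR0 : IsW (tabF ptabs) R0 [0,0] := fun _ => rfl
def R1 (i : Nat) : Nat := Nat.rec (motive := fun _ => Nat) 0 (fun j _ => Nat.rec (motive := fun _ => Nat) 0 (fun j _ => Nat.succ j) (nextP P1 j)) (nextP P1 i)
theorem hR1 : IsW (tabF ptabs) R1 [1,1] := fun _ => rfl
def R2 (i : Nat) : Nat := Nat.rec (motive := fun _ => Nat) 0 (fun j _ => Nat.rec (motive := fun _ => Nat) 0 (fun j _ => Nat.succ j) (nextP P2 j)) (nextP P2 i)
theorem hR2 : IsW (tabF ptabs) R2 [2,2] := fun _ => rfl
def R3 (i : Nat) : Nat := Nat.rec (motive := fun _ => Nat) 0 (fun j _ => Nat.rec (motive := fun _ => Nat) 0 (fun j _ => Nat.succ j) (nextP P3 j)) (nextP P3 i)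
theorem hR3 : IsW (tabF ptabs) R3 [3,3] := fun _ => rfl
def R4 (i : Nat) : Nat := Nat.rec (motive := fun _ => Nat) 0 (fun j _ => Nat.rec (motive := fun _ => Nat) 0 (fun j _ => Nat.succ j) (nextP P4 j)) (nextP P4 i)
theorem hR4 : IsW (tabF ptabs) R4 [4,4] := fun _ => rfl
def R5 (i : Nat) : Nat := Nat.rec (motive := fun _ => Nat) 0 (fun j _ => Nat.rec (motive := fun _ => Nat) 0 (fun j _ => Nat.succ j) (nextP P5 j)) (nextP P5 i)
theorem hR5 : IsW (tabF ptabs) R5 [5,5] := fun _ => rfl
def UR6 (i : Nat) : Nat := Nat.rec (motive := fun _ => Nat) 0 (fun j _ => Nat.rec (motive := fun _ => Nat) 0 (fun j _ => Nat.succ j) (nextP P0 j)) (nextP P1 i)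
theorem hUR6 : IsW (tabF ptabs) UR6 [1,0] := fun _ => rfl
def R6 (i : Nat) : Nat := Nat.rec (motive := fun _ => Nat) 0 (fun j _ => Nat.rec (motive := fun _ => Nat) 0 (fun j _ => Nat.rec (motive := fun _ => Nat) 0 (fun j _ => Nat.succ j) (UR6 j)) (UR6 j)) (UR6 i)
theorem hR6 : IsW (tabF ptabs) R6 [1,0,1,0,1,0] := fun i => IsW.pow hUR6 3 i
def UR7 (i : Nat) : Nat := Nat.rec (motive := fun _ => Nat) 0 (fun j _ => Nat.rec (motive := fun _ => Nat) 0 (fun j _ => Nat.succ j) (nextP P0 j)) (nextP P2 i)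
theorem hUR7 : IsW (tabF ptabs) UR7 [2,0] := fun _ => rfl
def R7 (i : Nat) : Nat := Nat.rec (motive := fun _ => Nat) 0 (fun j _ => Nat.rec (motive := fun _ => Nat) 0 (fun j _ => Nat.succ j) (UR7 j)) (UR7 i)
theorem hR7 : IsW (tabF ptabs) R7 [2,0,2,0] := fun i => IsW.pow hUR7 2 i
def UR8 (i : Nat) : Nat := Nat.rec (motive := fun _ => Nat) 0 (fun j _ => Nat.rec (motive := fun _ => Nat) 0 (fun j _ => Nat.succ j) (nextP P0 j)) (nextP P3 i)
theorem hUR8 : IsW (tabF ptabs) UR8 [3,0] := fun _ => rfl
def R8 (i : Nat) : Nat := Nat.rec (motive := fun _ => Nat) 0 (fun j _ => Nat.rec (motive := fun _ => Nat) 0 (fun j _ => Nat.rec (motive := fun _ => Nat) 0 (fun j _ => Nat.succ j) (UR8 j)) (UR8 j)) (UR8 i)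
theorem hR8 : IsW (tabF ptabs) R8 [3,0,3,0,3,0] := fun i => IsW.pow hUR8 3 i
def UR9 (i : Nat) : Nat := Nat.rec (motive := fun _ => Nat) 0 (fun j _ => Nat.rec (motive := fun _ => Nat) 0 (fun j _ => Nat.succ j) (nextP P0 j)) (nextP P4 i)
theorem hUR9 : IsW (tabF ptabs) UR9 [4,0] := fun _ => rfl
def R9 (i : Nat) : Nat := Nat.rec (motive := fun _ => Nat) 0 (fun j _ => Nat.rec (motive := fun _ => Nat) 0 (fun j _ => Nat.succ j) (UR9 j)) (UR9 i)
theorem hR9 : IsW (tabF ptabs) R9 [4,0,4,0] := fun i => IsW.pow hUR9 2 i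
def UR10 (i : Nat) : Nat := Nat.rec (motive := fun _ => Nat) 0 (fun j _ => Nat.rec (motive := fun _ => Nat) 0 (fun j _ => Nat.succ j) (nextP P0 j)) (nextP P5 i)
theorem hUR10 : IsW (tabF ptabs) UR10 [5,0] := fun _ => rfl
def R10 (i : Nat) : Nat := Nat.rec (motive := fun _ => Nat) 0 (fun j _ => Nat.rec (motive := fun _ => Nat) 0 (fun j _ => Nat.rec (motive := fun _ => Nat) 0 (fun j _ => Nat.succ j) (UR10 j)) (UR10 j)) (UR10 i)
theorem hR10 : IsW (tabF ptabs) R10 [5,0,5,0,5,0] := fun i => IsW.pow hUR10 3 i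
def UR11 (i : Nat) : Nat := Nat.rec (motive := fun _ => Nat) 0 (fun j _ => Nat.rec (motive := fun _ => Nat) 0 (fun j _ => Nat.succ j) (nextP P1 j)) (nextP P2 i)
theorem hUR11 : IsW (tabF ptabs) UR11 [2,1] := fun _ => rfl
def R11 (i : Nat) : Nat := Nat.rec (motive := fun _ => Nat) 0 (fun j _ => Nat.rec (motive := fun _ => Nat) 0 (fun j _ => Nat.rec (motive := fun _ => Nat) 0 (fun j _ => Nat.succ j) (UR11 j)) (UR11 j)) (UR11 i)
theorem hR11 : IsW (tabF ptabs) R11 [2,1,2,1,2,1] := fun i => IsW.pow hUR11 3 i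
def UR12 (i : Nat) : Nat := Nat.rec (motive := fun _ => Nat) 0 (fun j _ => Nat.rec (motive := fun _ => Nat) 0 (fun j _ => Nat.succ j) (nextP P1 j)) (nextP P3 i)
theorem hUR12 : IsW (tabF ptabs) UR12 [3,1] := fun _ => rfl
def R12 (i : Nat) : Nat := Nat.rec (motive := fun _ => Nat) 0 (fun j _ => Nat.rec (motive := fun _ => Nat) 0 (fun j _ => Nat.succ j) (UR12 j)) (UR12 i)
theorem hR12 : IsW (tabF ptabs) R12 [3,1,3,1] := fun i => IsW.pow hUR12 2 i
def UR13 (i : Nat) : Nat := Nat.rec (motive := fun _ => Nat) 0 (fun j _ => Nat.rec (motive := fun _ => Nat) 0 (fun j _ => Nat.succ j) (nextP P1 j)) (nextP P4 i)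
theorem hUR13 : IsW (tabF ptabs) UR13 [4,1] := fun _ => rfl
def R13 (i : Nat) : Nat := Nat.rec (motive := fun _ => Nat) 0 (fun j _ => Nat.rec (motive := fun _ => Nat) 0 (fun j _ => Nat.succ j) (UR13 j)) (UR13 i)
theorem hR13 : IsW (tabF ptabs) R13 [4,1,4,1] := fun i => IsW.pow hUR13 2 i
def UR14 (i : Nat) : Nat := Nat.rec (motive := fun _ => Nat) 0 (fun j _ => Nat.rec (motive := fun _ => Nat) 0 (fun j _ => Nat.succ j) (nextP P1 j)) (nextP P5 i)
theorem hUR14 : IsW (tabF ptabs) UR14 [5,1] := fun _ => rfl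
def R14 (i : Nat) : Nat := Nat.rec (motive := fun _ => Nat) 0 (fun j _ => Nat.rec (motive := fun _ => Nat) 0 (fun j _ => Nat.succ j) (UR14 j)) (UR14 i)
theorem hR14 : IsW (tabF ptabs) R14 [5,1,5,1] := fun i => IsW.pow hUR14 2 i
def UR15 (i : Nat) : Nat := Nat.rec (motive := fun _ => Nat) 0 (fun j _ => Nat.rec (motive := fun _ => Nat) 0 (fun j _ => Nat.succ j) (nextP P2 j)) (nextP P3 i)
theorem hUR15 : IsW (tabF ptabs) UR15 [3,2] := fun _ => rfl
def R15 (i : Nat) : Nat := Nat.rec (motive := fun _ => Nat) 0 (fun j _ => Nat.rec (motive := fun _ => Nat) 0 (fun j _ => Nat.succ j) (UR15 j)) (UR15 i)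
theorem hR15 : IsW (tabF ptabs) R15 [3,2,3,2] := fun i => IsW.pow hUR15 2 i
def UR16 (i : Nat) : Nat := Nat.rec (motive := fun _ => Nat) 0 (fun j _ => Nat.rec (motive := fun _ => Nat) 0 (fun j _ => Nat.succ j) (nextP P2 j)) (nextP P4 i)
theorem hUR16 : IsW (tabF ptabs) UR16 [4,2] := fun _ => rfl
def R16 (i : Nat) : Nat := Nat.rec (motive := fun _ => Nat) 0 (fun j _ => Nat.rec (motive := fun _ => Nat) 0 (fun j _ => Nat.succ j) (UR16 j)) (UR16 i)
theorem hR16 : IsW (tabF ptabs) R16 [4,2,4,2] := fun i => IsW.pow hUR16 2 i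
def UR17 (i : Nat) : Nat := Nat.rec (motive := fun _ => Nat) 0 (fun j _ => Nat.rec (motive := fun _ => Nat) 0 (fun j _ => Nat.succ j) (nextP P2 j)) (nextP P5 i)
theorem hUR17 : IsW (tabF ptabs) UR17 [5,2] := fun _ => rfl
def R17 (i : Nat) : Nat := Nat.rec (motive := fun _ => Nat) 0 (fun j _ => Nat.rec (motive := fun _ => Nat) 0 (fun j _ => Nat.succ j) (UR17 j)) (UR17 i)
theorem hR17 : IsW (tabF ptabs) R17 [5,2,5,2] := fun i => IsW.pow hUR17 2 i
def UR18 (i : Nat) : Nat := Nat.rec (motive := fun _ => Nat) 0 (fun j _ => Nat.rec (motive := fun _ => Nat) 0 (fun j _ => Nat.succ j) (nextP P3 j)) (nextP P4 i)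
theorem hUR18 : IsW (tabF ptabs) UR18 [4,3] := fun _ => rfl
def R18 (i : Nat) : Nat := Nat.rec (motive := fun _ => Nat) 0 (fun j _ => Nat.rec (motive := fun _ => Nat) 0 (fun j _ => Nat.rec (motive := fun _ => Nat) 0 (fun j _ => Nat.succ j) (UR18 j)) (UR18 j)) (UR18 i)
theorem hR18 : IsW (tabF ptabs) R18 [4,3,4,3,4,3] := fun i => IsW.pow hUR18 3 i
def UR19 (i : Nat) : Nat := Nat.rec (motive := fun _ => Nat) 0 (fun j _ => Nat.rec (motive := fun _ => Nat) 0 (fun j _ => Nat.succ j) (nextP P3 j)) (nextP P5 i)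
theorem hUR19 : IsW (tabF ptabs) UR19 [5,3] := fun _ => rfl
def R19 (i : Nat) : Nat := Nat.rec (motive := fun _ => Nat) 0 (fun j _ => Nat.rec (motive := fun _ => Nat) 0 (fun j _ => Nat.succ j) (UR19 j)) (UR19 i)
theorem hR19 : IsW (tabF ptabs) R19 [5,3,5,3] := fun i => IsW.pow hUR19 2 i
def UR20 (i : Nat) : Nat := Nat.rec (motive := fun _ => Nat) 0 (fun j _ => Nat.rec (motive := fun _ => Nat) 0 (fun j _ => Nat.succ j) (nextP P4 j)) (nextP P5 i)
theorem hUR20 : IsW (tabF ptabs) UR20 [5,4] := fun _ => rfl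
def R20 (i : Nat) : Nat := Nat.rec (motive := fun _ => Nat) 0 (fun j _ => Nat.rec (motive := fun _ => Nat) 0 (fun j _ => Nat.succ j) (UR20 j)) (UR20 i)
theorem hR20 : IsW (tabF ptabs) R20 [5,4,5,4] := fun i => IsW.pow hUR20 2 i
def rl : List (Nat → Nat) := [R0, R1, R2, R3, R4, R5, R6, R7, R8, R9, R10, R11, R12, R13, R14, R15, R16, R17, R18, R19, R20]
theorem hrl : FW (tabF ptabs) rl rws := .cons hR0 (.cons hR1 (.cons hR2 (.cons hR3 (.cons hR4 (.cons hR5 (.cons hR6 (.cons hR7 (.cons hR8 (.cons hR9 (.cons hR10 (.cons hR11 (.cons hR12 (.cons hR13 (.cons hR14 (.cons hR15 (.cons hR16 (.cons hR17 (.cons hR18 (.cons hR19 (.cons hR20 (.nil)))))))))))))))))))))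
def H0 (i : Nat) : Nat := Nat.rec (motive := fun _ => Nat) 0 (fun j _ => Nat.succ j) (nextP P0 i)
theorem hH0 : IsW (tabF ptabs) H0 [0] := fun _ => rfl
def H1 (i : Nat) : Nat := Nat.rec (motive := fun _ => Nat) 0 (fun j _ => Nat.succ j) (nextP P1 i)
theorem hH1 : IsW (tabF ptabs) H1 [1] := fun _ => rfl
def H2 (i : Nat) : Nat := Nat.rec (motive := fun _ => Nat) 0 (fun j _ => Nat.succ j) (nextP P2 i)
theorem hH2 : IsW (tabF ptabs) H2 [2] := fun _ => rfl
def H3 (i : Nat) : Nat := Nat.rec (motive := fun _ => Nat) 0 (fun j _ => Nat.succ j) (nextP P3 i)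
theorem hH3 : IsW (tabF ptabs) H3 [3] := fun _ => rfl
def H4 (i : Nat) : Nat := Nat.rec (motive := fun _ => Nat) 0 (fun j _ => Nat.succ j) (nextP P4 i)
theorem hH4 : IsW (tabF ptabs) H4 [4] := fun _ => rfl
def hl : List (Nat → Nat) := [H0, H1, H2, H3, H4]
theorem hhl : FW (tabF ptabs) hl hw := .cons hH0 (.cons hH1 (.cons hH2 (.cons hH3 (.cons hH4 (.nil)))))
def pl : List (Nat → Nat) := [H0, H1, H2, H3, H4, nextP P0, nextP P1, nextP P2, nextP P3, nextP P4, nextP P5]
theorem hpl : FW (tabF ptabs) pl pwl := .cons hH0 (.cons hH1 (.cons hH2 (.cons hH3 (.cons hH4 (.cons (IsW.letter (tabF ptabs) 0) (.cons (IsW.letter (tabF ptabs) 1) (.cons (IsW.letter (tabF ptabs) 2) (.cons (IsW.letter (tabF ptabs) 3) (.cons (IsW.letter (tabF ptabs) 4) (.cons (IsW.letter (tabF ptabs) 5) (.nil)))))))))))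
def bl : List (Nat → Nat) := [nextP P0, nextP P1, nextP P2, nextP P3, nextP P4, nextP P5]
theorem hbl : ∀ g, g < 6 → nextP (tabF ptabs g) ∈ bl := by
  intro g hg
  interval_cases g <;> simp [bl, tabF, ptabs]

end H93.Y221
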